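import Mathlib
import Cfsg.Agent.Lib.Helper1.FPF.Main2

set_option autoImplicit false

namespace Cfsg.Agent.Lib.Helper1.Kegel

open Cfsg.Agent.Lib.Helper1.FPF

universe u

section

variable {G : Type u} [Group G]

def npr (α : MulAut G) : ℕ → G → G
  | 0, _ => 1
  | k + 1, x => npr α k x * (α ^ k) x

theorem npr_zero (α : MulAut G) (x : G) : npr α 0 x = 1 := rfl

theorem npr_succ (α : MulAut G) (k : ℕ) (x : G) : npr α (k + 1) x = npr α k x * (α ^ k) x := rfl

theorem npr_eq_list (α : MulAut G) (k : ℕ) (x : G) :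
    ((List.range k).map (fun i : ℕ => (α ^ i) x)).prod = npr α k x := by
  induction k with
  | zero => simp [npr_zero]
  | succ k ih =>
    rw [List.range_succ, List.map_append, List.prod_append, ih, npr_succ]
    simp

def Split (r : ℕ) (α : MulAut G) : Prop := α ^ r = 1 ∧ ∀ x : G, npr α r x = 1

theorem twist_pow (α : MulAut G) (g x : G) (k : ℕ) :
    ((MulAut.conj g * α) ^ k) x = npr α k g * (α ^ k) x * (npr α k g)⁻¹ := by
  induction k generalizing x with
  | zero => simp [npr_zero]
  | succ k ih =>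
    rw [pow_succ, MulAut.mul_apply, ih, npr_succ, pow_succ, MulAut.mul_apply, MulAut.mul_apply,
      MulAut.conj_apply, map_mul, map_mul, map_inv]
    group

theorem twist_npr (α : MulAut G) (g x : G) (k : ℕ) :
    npr (MulAut.conj g * α) k x = npr α k (x * g) * (npr α k g)⁻¹ := by
  induction k with
  | zero => simp [npr_zero]
  | succ k ih =>
    rw [npr_succ, ih, twist_pow, npr_succ, npr_succ, map_mul]
    group

theorem split_twist {r : ℕ} {α : MulAut G} (h : Split r α) (g : G) :
    Split r (MulAut.conj g * α) := by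
  constructor
  · ext x
    rw [twist_pow, h.1, h.2 g]
    simp
  · intro x
    rw [twist_npr, h.2, h.2]
    simp

theorem npr_of_fixed (α : MulAut G) (x : G) (hx : α x = x) (k : ℕ) : npr α k x = x ^ k := by
  induction k with
  | zero => simp [npr_zero]
  | succ k ih =>
    rw [npr_succ, ih, pow_apply_eq_self α x hx k, pow_succ]

theorem split_fixed {r : ℕ} {α : MulAut G} (h : Split r α) (x : G) (hx : α x = x) : x ^ r = 1 := by
  rw [← npr_of_fixed α x hx r]
  exact h.2 x

theorem inv_of_normal_of_twist {α : MulAut G} {g : G} {N : Subgroup G} [hN : N.Normal]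
    (h : Inv (MulAut.conj g * α) N) : Inv α N := by
  intro x hx
  have h1 := h x hx
  rw [MulAut.mul_apply, MulAut.conj_apply] at h1
  have h2 := hN.conj_mem _ h1 g⁻¹
  have e : g⁻¹ * (g * α x * g⁻¹) * g⁻¹⁻¹ = α x := by group
  rwa [e] at h2

theorem inv_twist_of_normal {α : MulAut G} (g : G) {N : Subgroup G} [hN : N.Normal]
    (h : Inv α N) : Inv (MulAut.conj g * α) N := by
  intro x hx
  rw [MulAut.mul_apply, MulAut.conj_apply]
  exact hN.conj_mem _ (h x hx) g

theorem inv_one_twist {α : MulAut G} {S : Subgroup G} (h : Inv α S) :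
    Inv (MulAut.conj (1 : G) * α) S := by
  rw [map_one, one_mul]
  exact h

variable [Finite G]

theorem npr_res (α : MulAut G) (S : Subgroup G) (hS : Inv α S) (k : ℕ) (x : S) :
    ((npr (resAut α S hS : MulAut S) k x : S) : G) = npr α k (x : G) := by
  induction k with
  | zero => simp [npr_zero]
  | succ k ih =>
    rw [npr_succ, npr_succ, Subgroup.coe_mul, ih, resAut_pow_coe]

theorem split_res {r : ℕ} {α : MulAut G} (h : Split r α) (S : Subgroup G) (hS : Inv α S) :
    Split r (resAut α S hS : MulAut S) := by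
  constructor
  · exact resAut_pow_eq_one α S hS r h.1
  · intro x
    apply Subtype.ext
    rw [npr_res, h.2]
    rfl

theorem npr_quot (α : MulAut G) (N : Subgroup G) [N.Normal] (hN : Inv α N) (k : ℕ) (x : G) :
    npr (quotAut α N hN : MulAut (G ⧸ N)) k (QuotientGroup.mk x) =
      QuotientGroup.mk (npr α k x) := by
  induction k with
  | zero => simp [npr_zero]
  | succ k ih =>
    rw [npr_succ, npr_succ, ih, quotAut_pow_mk, QuotientGroup.mk_mul]

theorem split_quot {r : ℕ} {α : MulAut G} (h : Split r α) (N : Subgroup G) [N.Normal]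
    (hN : Inv α N) : Split r (quotAut α N hN : MulAut (G ⧸ N)) := by
  constructor
  · exact quotAut_pow_eq_one α N hN r h.1
  · intro xb
    obtain ⟨x, rfl⟩ := QuotientGroup.mk_surjective xb
    rw [npr_quot, h.2]
    rfl

open scoped Pointwise in
theorem exists_twist_inv_sylow (α : MulAut G) {q : ℕ} [Fact q.Prime] (Q : Sylow q G) :
    ∃ g : G, Inv (MulAut.conj g * α) (Q : Subgroup G) := by
  obtain ⟨g, hg⟩ := MulAction.exists_smul_eq G (α • Q) Q
  refine ⟨g, ?_⟩
  intro c hc
  have h2 : α c ∈ α • Q := by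
    rw [← SetLike.mem_coe, ← Sylow.coe_coe, Sylow.pointwise_smul_def]
    exact ⟨c, hc, rfl⟩
  have h3 : g * α c * g⁻¹ ∈ g • (α • Q) := by
    rw [← SetLike.mem_coe, ← Sylow.coe_coe, Sylow.coe_subgroup_smul]
    exact ⟨α c, h2, rfl⟩
  rw [hg] at h3
  rw [MulAut.mul_apply, MulAut.conj_apply]
  exact h3

end

end Cfsg.Agent.Lib.Helper1.Kegel
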