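import Mathlib
import Cfsg.Agent.Lib.Helper1.Kegel.Basic

set_option autoImplicit false

namespace Cfsg.Agent.Lib.Helper1.Kegel

open Cfsg.Agent.Lib.Helper1.FPF Cfsg.Agent.Lib.Helper1.TNPC

open scoped IsMulCommutative

universe u

section PureRing

variable {R : Type*} [Ring R]

theorem sum_pow_mul_eq {p : ℕ} (hp : p.Prime) (a : R) (ha : a ^ p = 1) {i : ℕ} (hi0 : 0 < i)
    (hip : i < p) :
    ∑ j ∈ Finset.range p, a ^ (j * i) = ∑ m ∈ Finset.range p, a ^ m := by
  have hcop : Nat.gcd p i = 1 := by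
    have : Nat.Coprime p i := (Nat.Prime.coprime_iff_not_dvd hp).mpr
      (fun hd => absurd (Nat.le_of_dvd hi0 hd) (not_le.mpr hip))
    exact this
  have hmaps : Set.MapsTo (fun j : ℕ => (j * i) % p) (Finset.range p : Set ℕ)
      (Finset.range p : Set ℕ) := by
    intro j _
    simp only [Finset.coe_range, Set.mem_Iio]
    exact Nat.mod_lt _ hp.pos
  have hinj : Set.InjOn (fun j : ℕ => (j * i) % p) (Finset.range p : Set ℕ) := by
    intro j1 h1 j2 h2 h
    simp only [Finset.coe_range, Set.mem_Iio] at h1 h2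
    have h3 : j1 * i ≡ j2 * i [MOD p] := h
    have h4 : j1 ≡ j2 [MOD p] := Nat.ModEq.cancel_right_of_coprime hcop h3
    exact Nat.ModEq.eq_of_lt_of_lt h4 h1 h2
  have hsurj : Set.SurjOn (fun j : ℕ => (j * i) % p) (Finset.range p : Set ℕ)
      (Finset.range p : Set ℕ) :=
    Finset.surjOn_of_injOn_of_card_le _ hmaps hinj le_rfl
  apply Finset.sum_nbij (fun j : ℕ => (j * i) % p)
  · intro j hj
    exact hmaps hj
  · exact hinj
  · exact hsurj
  · intro j _
    exact pow_eq_pow_mod (j * i) ha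

theorem ring_key {p : ℕ} (hp : p.Prime) (a b : R) (hab : Commute a b) (ha : a ^ p = 1)
    (hsum : ∀ j < p, ∑ i ∈ Finset.range p, (a ^ j * b) ^ i = 0) :
    (p : R) = ∑ m ∈ Finset.range p, a ^ m := by
  have hb : ∑ i ∈ Finset.range p, b ^ i = 0 := by
    have := hsum 0 hp.pos
    simpa using this
  have h1 : ∑ j ∈ Finset.range p, ∑ i ∈ Finset.range p, (a ^ j * b) ^ i = 0 :=
    Finset.sum_eq_zero (fun j hj => hsum j (Finset.mem_range.mp hj))
  rw [Finset.sum_comm] at h1
  have h2 : ∀ i ∈ Finset.range p, ∑ j ∈ Finset.range p, (a ^ j * b) ^ i =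
      (∑ j ∈ Finset.range p, a ^ (j * i)) * b ^ i := by
    intro i _
    rw [Finset.sum_mul]
    apply Finset.sum_congr rfl
    intro j _
    rw [(hab.pow_left j).mul_pow i, ← pow_mul]
  rw [Finset.sum_congr rfl h2] at h1
  set T := ∑ m ∈ Finset.range p, a ^ m with hT
  have h3 : ∑ i ∈ Finset.range p, ((∑ j ∈ Finset.range p, a ^ (j * i)) * b ^ i - T * b ^ i) =
      (p : R) - T := by
    rw [Finset.sum_eq_single_of_mem 0 (Finset.mem_range.mpr hp.pos)]
    · simp
    · intro i hi hi0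
      rw [sum_pow_mul_eq hp a ha (Nat.pos_of_ne_zero hi0) (Finset.mem_range.mp hi), sub_self]
  rw [Finset.sum_sub_distrib, h1, ← Finset.mul_sum, hb, mul_zero, sub_zero] at h3
  exact (sub_eq_zero.mp h3.symm)

end PureRing

section Ring

variable {G : Type u} [Group G] [Finite G] (β : G ≃* G) (N : Subgroup G) [hNn : N.Normal]
  [hNc : IsMulCommutative N] (hN : Inv β N)

theorem sum_pow_apply_val (k : ℕ) (w : Additive ↥N) :
    ((Additive.toMul ((∑ i ∈ Finset.range k, PhiEnd β N hN ^ i) w) : ↥N) : G) =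
      npr (β : MulAut G) k ((Additive.toMul w : ↥N) : G) := by
  induction k with
  | zero => simp [npr_zero]
  | succ k ih =>
    rw [Finset.sum_range_succ, npr_succ, ← ih, ← PhiEnd_pow_apply_val β N hN k w]
    rfl

theorem split_sum_eq_zero {r : ℕ} (h : Split r (β : MulAut G)) :
    ∑ k ∈ Finset.range r, PhiEnd β N hN ^ k = 0 := by
  ext w
  rw [sum_pow_apply_val, h.2]
  rfl

theorem conj_sum_eq_zero' {r : ℕ} (hsum : ∑ k ∈ Finset.range r, PhiEnd β N hN ^ k = 0) (y : G) :
    ∑ k ∈ Finset.range r, rho N (y⁻¹ * ((β : MulAut G) ^ k) y) * PhiEnd β N hN ^ k = 0 := by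
  have h1 : rho N y⁻¹ * (∑ k ∈ Finset.range r, PhiEnd β N hN ^ k) * rho N y = 0 := by
    rw [hsum, mul_zero, zero_mul]
  rw [Finset.mul_sum, Finset.sum_mul] at h1
  rw [← h1]
  apply Finset.sum_congr rfl
  intro k _
  rw [mul_assoc, PhiEnd_pow_mul_rho, ← mul_assoc, ← map_mul]

theorem eq_bot_of_split_coprime {r : ℕ}
    (hsum : ∑ k ∈ Finset.range r, PhiEnd β N hN ^ k = 0)
    (hrp : r.Prime) (hr : (β : MulAut G) ^ r = 1) (P : Subgroup G) (hP : Inv β P)
    (hfix : ∀ y ∈ P, β y = y → y = 1)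
    (hcop : (Nat.card N).Coprime (Nat.card P))
    (hC : N ⊓ Subgroup.centralizer (P : Set G) = ⊥) : N = ⊥ := by
  classical
  haveI : Fintype ↥P := Fintype.ofFinite _
  have hT := sumP_eq_zero N P hC
  have hsum2 : ∑ y : ↥P, ∑ k ∈ Finset.range r,
      rho N ((y : G)⁻¹ * ((β : MulAut G) ^ k) (y : G)) * PhiEnd β N hN ^ k = 0 :=
    Finset.sum_eq_zero (fun y _ => conj_sum_eq_zero' β N hN hsum (y : G))
  rw [Finset.sum_comm] at hsum2
  have hk : ∀ k ∈ Finset.range r, k ≠ 0 →
      ∑ y : ↥P, rho N ((y : G)⁻¹ * ((β : MulAut G) ^ k) (y : G)) * PhiEnd β N hN ^ k = 0 := by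
    intro k hk hk0
    rw [← Finset.sum_mul]
    have h1 : ∑ y : ↥P, rho N ((y : G)⁻¹ * ((β : MulAut G) ^ k) (y : G)) =
        ∑ z : ↥P, rho N (z : G) := by
      let e : ↥P → ↥P := fun y => ⟨(y : G)⁻¹ * ((β : MulAut G) ^ k) (y : G),
        P.mul_mem (P.inv_mem y.2) (inv_pow hP k y y.2)⟩
      have he : Function.Injective e := by
        intro a b hab
        have h1 : (a : G)⁻¹ * ((β : MulAut G) ^ k) (a : G) =
            (b : G)⁻¹ * ((β : MulAut G) ^ k) (b : G) := congrArg Subtype.val hab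
        have h2 : ((β : MulAut G) ^ k) ((b : G) * (a : G)⁻¹) = (b : G) * (a : G)⁻¹ := by
          rw [map_mul, map_inv]
          have h5 : ((β : MulAut G) ^ k) (b : G) =
              (b : G) * (a : G)⁻¹ * ((β : MulAut G) ^ k) (a : G) := by
            rw [mul_assoc, h1]
            group
          rw [h5]
          group
        have h3 := fixed_of_pow_fixed (β : MulAut G) hrp hr (Nat.pos_of_ne_zero hk0)
          (Finset.mem_range.mp hk) _ h2
        have h4 := hfix _ (P.mul_mem b.2 (P.inv_mem a.2)) h3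
        exact Subtype.ext (mul_inv_eq_one.mp h4).symm
      have hb : Function.Bijective e := Finite.injective_iff_bijective.mp he
      exact hb.sum_comp (fun z : ↥P => rho N (z : G))
    rw [h1, hT, zero_mul]
  have h0mem : 0 ∈ Finset.range r := Finset.mem_range.mpr hrp.pos
  rw [Finset.sum_eq_single_of_mem 0 h0mem (fun k hk' hk0 => hk k hk' hk0)] at hsum2
  have hcardE : ((Fintype.card ↥P : ℕ) : AddMonoid.End (Additive ↥N)) = 0 := by
    rw [← hsum2]
    simp
  rw [eq_bot_iff]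
  intro v hv
  rw [Subgroup.mem_bot]
  have h1 := congrArg (fun f => f (Additive.ofMul (⟨v, hv⟩ : ↥N))) hcardE
  simp only [AddMonoid.End.natCast_apply, AddMonoid.End.zero_apply] at h1
  have h2 : (⟨v, hv⟩ : ↥N) ^ Fintype.card ↥P = 1 := by
    have := congrArg Additive.toMul h1
    simpa using this
  have h3 : (⟨v, hv⟩ : ↥N) ^ Nat.card ↥N = 1 := pow_card_eq_one'
  rw [← Nat.card_eq_fintype_card] at h2
  have h4 := (pow_eq_one_iff_of_coprime hcop).mp ⟨h3, h2⟩
  exact congrArg Subtype.val h4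

theorem PhiEnd_twist (g : G) (hN' : Inv (MulAut.conj g * (β : MulAut G)) N) :
    PhiEnd (MulAut.conj g * (β : MulAut G)) N hN' = rho N g * PhiEnd β N hN := by
  ext w
  obtain ⟨v, rfl⟩ : ∃ v : ↥N, Additive.ofMul v = w := ⟨Additive.toMul w, rfl⟩
  show ((Additive.toMul (PhiEnd (MulAut.conj g * (β : MulAut G)) N hN' (Additive.ofMul v)) : ↥N) : G)
    = ((Additive.toMul (rho N g (PhiEnd β N hN (Additive.ofMul v))) : ↥N) : G)
  rw [PhiEnd_apply_val]
  have h1 : PhiEnd β N hN (Additive.ofMul v) = Additive.ofMul (resHom β N hN v) := rfl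
  rw [h1, rho_apply_val, resHom_coe]
  rfl

include hN in
theorem centralizes_of_fixed {r : ℕ} (hrp : r.Prime) (h : Split r (β : MulAut G)) (z : G)
    (hz : β z = z) (hzr : z ^ r = 1) (hcop : (Nat.card N).Coprime r) :
    z ∈ Subgroup.centralizer (N : Set G) := by
  rw [← rho_eq_one_iff N z]
  set a := rho N z with ha
  set b := PhiEnd β N hN with hb
  have hab : Commute a b := by
    have := PhiEnd_mul_rho β N hN z
    rw [hz] at this
    exact this.symm
  have har : a ^ r = 1 := by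
    rw [ha, ← map_pow, hzr, map_one]
  have hsum : ∀ j < r, ∑ i ∈ Finset.range r, (a ^ j * b) ^ i = 0 := by
    intro j _
    have hN' : Inv (MulAut.conj (z ^ j) * (β : MulAut G)) N := inv_twist_of_normal (z ^ j) hN
    have h1 := split_sum_eq_zero (MulAut.conj (z ^ j) * (β : MulAut G)) N hN' (split_twist h (z ^ j))
    rw [PhiEnd_twist β N hN (z ^ j) hN', map_pow] at h1
    exact h1
  have hkey := ring_key hrp a b hab har hsum
  have h2 : (a - 1) * (r : AddMonoid.End (Additive ↥N)) = 0 := by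
    rw [hkey, mul_geom_sum, har, sub_self]
  have h3 : ∀ w : Additive ↥N, a w - w = 0 := by
    intro w
    have h4 : (a - 1) ((r : AddMonoid.End (Additive ↥N)) w) = 0 := congrArg (fun f => f w) h2
    rw [AddMonoid.End.natCast_apply, map_nsmul] at h4
    have h4' : r • (a w - w) = 0 := h4
    obtain ⟨v, hv⟩ : ∃ v : ↥N, Additive.ofMul v = a w - w := ⟨Additive.toMul _, rfl⟩
    rw [← hv] at h4' ⊢
    have h5 : v ^ r = 1 := by
      have := congrArg Additive.toMul h4'
      simpa using this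
    have h6 : v ^ Nat.card ↥N = 1 := pow_card_eq_one'
    have h7 := (pow_eq_one_iff_of_coprime hcop).mp ⟨h6, h5⟩
    rw [h7]
    rfl
  ext w
  have h8 := h3 w
  rw [sub_eq_zero] at h8
  have h9 : (1 : AddMonoid.End (Additive ↥N)) w = w := rfl
  rw [h8, h9]

end Ring

end Cfsg.Agent.Lib.Helper1.Kegel
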