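import Mathlib
import Cfsg.Agent.Lib.Helper1.Kegel.Ring

set_option autoImplicit false

namespace Cfsg.Agent.Lib.Helper1.Kegel

open Cfsg Cfsg.Agent.S5306 Cfsg.Agent.Lib.Helper1.TNPC Cfsg.Agent.Lib.Helper1.FPF

open scoped Pointwise

universe u

theorem exists_fixed_ne_one {p : ℕ} [Fact p.Prime] {Z : Type*} [Group Z] [Finite Z]
    (hZ : IsPGroup p Z) [Nontrivial Z] (ψ : MulAut Z) (hψ : ψ ^ p = 1) :
    ∃ z : Z, z ≠ 1 ∧ ψ z = z := by
  have hH : IsPGroup p (Subgroup.zpowers ψ) := by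
    rintro ⟨g, hg⟩
    obtain ⟨n, rfl⟩ := Subgroup.mem_zpowers_iff.mp hg
    refine ⟨1, ?_⟩
    apply Subtype.ext
    rw [pow_one, Subgroup.coe_pow, Subgroup.coe_one]
    show (ψ ^ n) ^ p = 1
    rw [← zpow_natCast, ← zpow_mul, mul_comm, zpow_mul, zpow_natCast, hψ, one_zpow]
  have hdvd : p ∣ Nat.card Z := by
    obtain ⟨n, hn0, hn⟩ := hZ.nontrivial_iff_card.mp inferInstance
    rw [hn]
    exact dvd_pow_self _ (ne_of_gt hn0)
  have h1 : (1 : Z) ∈ MulAction.fixedPoints (Subgroup.zpowers ψ) Z := by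
    intro g
    show (g : MulAut Z) 1 = 1
    exact map_one _
  obtain ⟨b, hb, hb1⟩ := hH.exists_fixed_point_of_prime_dvd_card_of_fixed_point Z hdvd h1
  refine ⟨b, fun h => hb1 h.symm, ?_⟩
  exact hb ⟨ψ, Subgroup.mem_zpowers ψ⟩

structure SCtx (r : ℕ) (G : Type u) [Group G] [Finite G] (α : G ≃* G) : Prop where
  hr : r.Prime
  split : Split r (α : MulAut G)
  sub : ∀ (S : Subgroup G) (g : G), Inv (MulAut.conj g * (α : MulAut G)) S → S ≠ ⊤ →
    Group.IsNilpotent S
  quot : ∀ (N : Subgroup G) [N.Normal], Inv α N → N ≠ ⊥ → Group.IsNilpotent (G ⧸ N)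
  cex : ¬ Group.IsNilpotent G

section

variable {G : Type u} [Group G] [Finite G] {r : ℕ} {α : G ≃* G}

theorem inv_center (φ : G ≃* G) : Inv φ (Subgroup.center G) := by
  intro x hx
  rw [Subgroup.mem_center_iff] at hx ⊢
  intro y
  obtain ⟨y', rfl⟩ := φ.surjective y
  rw [← map_mul, ← map_mul, hx y']

theorem SCtx.case_simple (c : SCtx r G α)
    (hmin : ∀ N' : Subgroup G, N'.Normal → Inv α N' → N' ≠ ⊥ → N' = ⊤) : False := by
  by_cases h2 : IsPGroup 2 G
  · exact c.cex h2.isNilpotent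
  have hex : ∃ p : ℕ, p.Prime ∧ p ∣ Nat.card G ∧ p ≠ 2 := by
    by_contra hcon
    push Not at hcon
    apply h2
    have := Nat.eq_prime_pow_of_unique_prime_dvd (n := Nat.card G) (p := 2) Nat.card_pos.ne'
      (fun {d} hd hdvd => hcon d hd hdvd)
    exact IsPGroup.of_card this
  obtain ⟨p, hp, hpG, hp2⟩ := hex
  haveI : Fact p.Prime := ⟨hp⟩
  obtain ⟨P⟩ : Nonempty (Sylow p G) := inferInstance
  obtain ⟨g, hP⟩ := exists_twist_inv_sylow (α : MulAut G) P
  have hPne : (P : Subgroup G) ≠ ⊥ := Sylow.ne_bot_of_dvd_card P hpG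
  have hPtop : (P : Subgroup G) ≠ ⊤ := fun h => c.cex (isNilpotent_of_eq_top_pgroup P.isPGroup' h)
  have hle_top : ∀ X : Subgroup G, X ≤ (P : Subgroup G) → X ≠ ⊤ := by
    intro X hX h
    apply hPtop
    rw [eq_top_iff, ← h]
    exact hX
  have hnpc : HasNormalPComplement p G := by
    apply thompson_npc hp2 P
    constructor
    · have hJ : Inv (MulAut.conj g * (α : MulAut G)) (TJ p (P : Subgroup G)) := inv_TJ hP
      have hNJ := inv_normalizer hJ
      have hne : Subgroup.normalizer (TJ p (P : Subgroup G) : Set G) ≠ ⊤ := by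
        intro h
        have hn : (TJ p (P : Subgroup G)).Normal := Subgroup.normalizer_eq_top_iff.mp h
        haveI := hn
        exact hle_top _ (TJ_le p _) (hmin _ hn (inv_of_normal_of_twist hJ)
          (TJ_ne_bot P.isPGroup' hPne))
      exact NilMax.npc_of_isNilpotent (c.sub _ g hNJ hne)
    · have hZ : Inv (MulAut.conj g * (α : MulAut G))
          ((P : Subgroup G) ⊓ Subgroup.centralizer ((P : Subgroup G) : Set G)) :=
        inv_inf hP (inv_centralizer hP)
      have hCZ := inv_centralizer hZ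
      have hne : Subgroup.centralizer
          (((P : Subgroup G) ⊓ Subgroup.centralizer ((P : Subgroup G) : Set G) : Subgroup G) : Set G) ≠ ⊤ := by
        intro h
        have hn : ((P : Subgroup G) ⊓ Subgroup.centralizer ((P : Subgroup G) : Set G)).Normal := by
          rw [← Subgroup.normalizer_eq_top_iff, eq_top_iff, ← h]
          exact Subgroup.centralizer_le_normalizer _
        haveI := hn
        exact hle_top _ inf_le_left (hmin _ hn (inv_of_normal_of_twist hZ)
          (Z_ne_bot P.isPGroup' hPne))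
      exact NilMax.npc_of_isNilpotent (c.sub _ g hCZ hne)
  obtain ⟨K, hKn, hKc, k, hk⟩ := npc_iff.mp hnpc
  haveI := hKn
  have hKinv : Inv α K := inv_of_index_pow hKc hk
  by_cases hK : K = ⊥
  · rw [hK, Subgroup.index_bot] at hk
    exact c.cex (IsPGroup.of_card hk).isNilpotent
  · have htop := hmin K hKn hKinv hK
    rw [htop, Subgroup.card_top] at hKc
    exact (hp.coprime_iff_not_dvd.mp hKc.symm) hpG

end

end Cfsg.Agent.Lib.Helper1.Kegel
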