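import Mathlib
import Cfsg.Agent.Lib.Helper1.Kegel.Main2
import Cfsg.Agent.Lib.Helper1.Nilp

set_option autoImplicit false

namespace Cfsg.Agent.Lib.Helper1.Kegel

open Cfsg Cfsg.Agent.Lib.Helper1.TNPC Cfsg.Agent.Lib.Helper1.FPF

open scoped IsMulCommutative

universe u

section Hughes

variable {G : Type u} [Group G]

theorem mul_pow_eq_npr (x h : G) (k : ℕ) :
    (h * x) ^ k = npr (MulAut.conj x) k h * x ^ k := by
  induction k with
  | zero => simp [npr_zero]
  | succ k ih =>
    rw [pow_succ, ih, npr_succ, ← map_pow, MulAut.conj_apply, pow_succ]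
    group

theorem closure_normal_of_conj_invariant (S : Set G) (hS : ∀ s ∈ S, ∀ g : G, g * s * g⁻¹ ∈ S) :
    (Subgroup.closure S).Normal := by
  constructor
  intro n hn g
  induction hn using Subgroup.closure_induction with
  | mem x hx => exact Subgroup.subset_closure (hS x hx g)
  | one => simp
  | mul x y _ _ hx hy =>
    have e : g * (x * y) * g⁻¹ = (g * x * g⁻¹) * (g * y * g⁻¹) := by group
    rw [e]
    exact mul_mem hx hy
  | inv x _ hx =>
    have e : g * x⁻¹ * g⁻¹ = (g * x * g⁻¹)⁻¹ := by group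
    rw [e]
    exact inv_mem hx

def hughes (p : ℕ) (G : Type u) [Group G] : Subgroup G := Subgroup.closure {g : G | g ^ p ≠ 1}

instance hughes_normal (p : ℕ) : (hughes p G).Normal := by
  apply closure_normal_of_conj_invariant
  intro s hs g
  show (g * s * g⁻¹) ^ p ≠ 1
  rw [conj_pow]
  intro h
  apply hs
  have h2 : s ^ p = g⁻¹ * (g * s ^ p * g⁻¹) * g := by group
  rw [h2, h]
  group

theorem pow_eq_one_of_not_mem_hughes {p : ℕ} {x : G} (hx : x ∉ hughes p G) : x ^ p = 1 := by
  by_contra h
  exact hx (Subgroup.subset_closure h)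

variable [Finite G]

theorem hughes_nilpotent {p : ℕ} (hp : p.Prime) (hH : hughes p G ≠ ⊤) :
    Group.IsNilpotent (hughes p G) := by
  obtain ⟨x, hx⟩ : ∃ x : G, x ∉ hughes p G := by
    by_contra hcon
    push Not at hcon
    exact hH (eq_top_iff.mpr (fun g _ => hcon g))
  have hxp : x ^ p = 1 := pow_eq_one_of_not_mem_hughes hx
  have hInv : Inv (MulAut.conj x) (hughes p G) := by
    intro h hh
    rw [MulAut.conj_apply]
    exact (hughes_normal p).conj_mem h hh x
  have hsplit : Split p (resAut (MulAut.conj x) (hughes p G) hInv : MulAut (hughes p G)) := by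
    constructor
    · apply resAut_pow_eq_one
      rw [← map_pow, hxp, map_one]
    · intro h
      apply Subtype.ext
      rw [npr_res]
      have h1 := mul_pow_eq_npr x (h : G) p
      have h2 : (h : G) * x ∉ hughes p G := by
        intro hmem
        apply hx
        have e : x = (h : G)⁻¹ * ((h : G) * x) := by group
        rw [e]
        exact mul_mem (inv_mem h.2) hmem
      rw [pow_eq_one_of_not_mem_hughes h2, hxp, mul_one] at h1
      rw [← h1]
      rfl
  exact kegel_nilpotent _ hp hsplit

theorem hughes_index {p : ℕ} (hp : p.Prime) (hG : ¬ IsPGroup p G) (hH : hughes p G ≠ ⊤) :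
    (hughes p G).index = p := by
  haveI : Fact p.Prime := ⟨hp⟩
  set H := hughes p G with hHdef
  haveI hHn : H.Normal := hughes_normal p
  haveI hHnil : Group.IsNilpotent H := hughes_nilpotent hp hH
  have hexp : ∀ x : G, x ∉ H → x ^ p = 1 := fun x hx => pow_eq_one_of_not_mem_hughes hx
  have hQp : IsPGroup p (G ⧸ H) := by
    intro xb
    obtain ⟨x, rfl⟩ := QuotientGroup.mk_surjective xb
    by_cases hx : x ∈ H
    · refine ⟨0, ?_⟩
      rw [pow_zero, pow_one]
      exact (QuotientGroup.eq_one_iff x).mpr hx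
    · refine ⟨1, ?_⟩
      rw [pow_one, ← QuotientGroup.mk_pow, hexp x hx]
      rfl
  haveI hnt : Nontrivial (G ⧸ H) := by
    rw [← not_subsingleton_iff_nontrivial]
    intro hsub
    apply hH
    rw [eq_top_iff]
    intro g _
    rw [← QuotientGroup.eq_one_iff]
    exact Subsingleton.elim _ _
  haveI := hQp.center_nontrivial
  obtain ⟨⟨bb, hbbc⟩, hbb1⟩ := exists_ne (1 : Subgroup.center (G ⧸ H))
  have hbb1' : bb ≠ 1 := fun h => hbb1 (Subtype.ext h)
  obtain ⟨b, rfl⟩ := QuotientGroup.mk_surjective bb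
  have hbH : b ∉ H := fun h => hbb1' ((QuotientGroup.eq_one_iff b).mpr h)
  have hbp : (QuotientGroup.mk b : G ⧸ H) ^ p = 1 := by
    rw [← QuotientGroup.mk_pow, hexp b hbH]
    rfl
  by_cases htop : Subgroup.zpowers (QuotientGroup.mk b : G ⧸ H) = ⊤
  · have h1 : Nat.card (G ⧸ H) = orderOf (QuotientGroup.mk b : G ⧸ H) := by
      rw [← Nat.card_zpowers, htop, Subgroup.card_top]
    have h2 : orderOf (QuotientGroup.mk b : G ⧸ H) ∣ p := orderOf_dvd_of_pow_eq_one hbp
    have h3 : orderOf (QuotientGroup.mk b : G ⧸ H) ≠ 1 := by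
      intro h
      exact hbb1' (orderOf_eq_one_iff.mp h)
    have h4 : orderOf (QuotientGroup.mk b : G ⧸ H) = p := by
      rcases (Nat.dvd_prime hp).mp h2 with h | h
      · exact absurd h h3
      · exact h
    rw [Subgroup.index_eq_card, h1, h4]
  · exfalso
    obtain ⟨ab, hab⟩ : ∃ ab : G ⧸ H, ab ∉ Subgroup.zpowers (QuotientGroup.mk b : G ⧸ H) := by
      by_contra hcon
      push Not at hcon
      exact htop (eq_top_iff.mpr (fun g _ => hcon g))
    obtain ⟨a, rfl⟩ := QuotientGroup.mk_surjective ab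
    have hbja : ∀ j : ℕ, b ^ j * a ∉ H := by
      intro j hmem
      apply hab
      have h1 : (QuotientGroup.mk (b ^ j * a) : G ⧸ H) = 1 := (QuotientGroup.eq_one_iff _).mpr hmem
      rw [QuotientGroup.mk_mul, QuotientGroup.mk_pow] at h1
      have h2 : (QuotientGroup.mk a : G ⧸ H) = ((QuotientGroup.mk b : G ⧸ H) ^ j)⁻¹ :=
        eq_inv_of_mul_eq_one_right h1
      rw [h2]
      exact inv_mem (Subgroup.pow_mem _ (Subgroup.mem_zpowers _) j)
    have hcommH : b * a * b⁻¹ * a⁻¹ ∈ H := by
      rw [← QuotientGroup.eq_one_iff]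
      have h1 := Subgroup.mem_center_iff.mp hbbc (QuotientGroup.mk a)
      have e : ((b * a * b⁻¹ * a⁻¹ : G) : G ⧸ H) = (QuotientGroup.mk b) * (QuotientGroup.mk a) *
          (QuotientGroup.mk b)⁻¹ * (QuotientGroup.mk a)⁻¹ := by
        simp
      rw [e, ← h1]
      group
    have hex : ∃ q : ℕ, q.Prime ∧ q ∣ Nat.card G ∧ q ≠ p := by
      by_contra hcon
      push Not at hcon
      apply hG
      have := Nat.eq_prime_pow_of_unique_prime_dvd (n := Nat.card G) (p := p) Nat.card_pos.ne'
        (fun {d} hd hdvd => hcon d hd hdvd)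
      exact IsPGroup.of_card this
    obtain ⟨q, hq, hqG, hqp⟩ := hex
    haveI : Fact q.Prime := ⟨hq⟩
    have hqH : q ∣ Nat.card H := by
      have e := Subgroup.card_eq_card_quotient_mul_card_subgroup H
      rw [e] at hqG
      rcases (Nat.Prime.dvd_mul hq).mp hqG with h | h
      · exfalso
        obtain ⟨m, hm⟩ := IsPGroup.iff_card.mp hQp
        rw [hm] at h
        exact hqp ((Nat.prime_dvd_prime_iff_eq hq hp).mp (hq.dvd_of_dvd_pow h))
      · exact h
    let Q₀ : Sylow q H := default
    have hQ₀n : (Q₀ : Subgroup H).Normal := inferInstance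
    haveI hQ₀c : (Q₀ : Subgroup H).Characteristic := Sylow.characteristic_of_normal Q₀ hQ₀n
    set Q := (Q₀ : Subgroup H).map H.subtype with hQ
    have hQn : Q.Normal := inferInstance
    have hQ₀ne : (Q₀ : Subgroup H) ≠ ⊥ := Sylow.ne_bot_of_dvd_card Q₀ hqH
    have h1 := Cfsg.Agent.Lib.Helper1.normal_inf_center_ne_bot (Q₀ : Subgroup H) hQ₀ne
    obtain ⟨z, hz1⟩ := (Subgroup.ne_bot_iff_exists_ne_one).mp h1
    have hz' : (z : H) ∈ (Q₀ : Subgroup H) ⊓ Subgroup.center H := z.2
    set N := Q ⊓ Subgroup.centralizer (H : Set G) with hN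
    haveI hCn : (Subgroup.centralizer (H : Set G)).Normal := Subgroup.normal_centralizer
    haveI hNn : N.Normal := inferInstance
    have hNQ : N ≤ Q := inf_le_left
    have hQH : Q ≤ H := Subgroup.map_subtype_le _
    haveI hNc : IsMulCommutative N := by
      refine ⟨⟨?_⟩⟩
      rintro ⟨u, hu⟩ ⟨v, hv⟩
      apply Subtype.ext
      show u * v = v * u
      exact (Subgroup.mem_centralizer_iff.mp hv.2 u (hQH hu.1))
    have hNne : N ≠ ⊥ := by
      intro h
      apply hz1
      have hzN : ((z : H) : G) ∈ N := by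
        refine ⟨⟨(z : H), hz'.1, rfl⟩, ?_⟩
        show ((z : H) : G) ∈ Subgroup.centralizer (H : Set G)
        rw [Subgroup.mem_centralizer_iff]
        intro h' hh'
        have := Subgroup.mem_center_iff.mp hz'.2 ⟨h', hh'⟩
        exact congrArg Subtype.val this
      rw [h, Subgroup.mem_bot] at hzN
      apply Subtype.ext
      apply Subtype.ext
      exact hzN
    have hNq : ∀ y ∈ N, ∃ k : ℕ, y ^ (q ^ k) = 1 := by
      intro y hy
      obtain ⟨y₀, hy₀, rfl⟩ := hNQ hy
      obtain ⟨k, hk⟩ := Q₀.isPGroup' ⟨y₀, hy₀⟩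
      refine ⟨k, ?_⟩
      have h2 := congrArg Subtype.val hk
      rw [Subgroup.coe_pow] at h2
      have h3 := congrArg Subtype.val h2
      rw [Subgroup.coe_pow] at h3
      exact h3
    have hpq : ∀ y ∈ N, y ^ p = 1 → y = 1 := by
      intro y hy hyp
      obtain ⟨k, hk⟩ := hNq y hy
      have hcop : Nat.Coprime p (q ^ k) :=
        Nat.Coprime.pow_right k ((Nat.coprime_primes hp hq).mpr (Ne.symm hqp))
      exact (pow_eq_one_iff_of_coprime hcop).mp ⟨hyp, hk⟩
    have hfpf : ∀ x : G, x ∉ H → ∀ y ∈ N, x * y = y * x → y = 1 := by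
      intro x hx y hy hxy
      apply hpq y hy
      have hyx : y * x ∉ H := by
        intro hmem
        apply hx
        have e : x = y⁻¹ * (y * x) := by group
        rw [e]
        exact mul_mem (inv_mem (hQH (hNQ hy))) hmem
      have h2 := hexp _ hyx
      have hc : Commute y x := hxy.symm
      rw [hc.mul_pow, hexp x hx, mul_one] at h2
      exact h2
    have hker : ∀ h ∈ H, rho N h = 1 := by
      intro h hh
      rw [rho_eq_one_iff]
      rw [Subgroup.mem_centralizer_iff]
      intro n hn
      exact (Subgroup.mem_centralizer_iff.mp hn.2 h hh).symm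
    have hsum : ∀ x : G, x ∉ H → ∑ k ∈ Finset.range p, rho N x ^ k = 0 := by
      intro x hx
      have h2 := mul_geom_sum (rho N x) p
      rw [← map_pow, hexp x hx, map_one, sub_self, sub_mul, one_mul, sub_eq_zero] at h2
      ext w
      obtain ⟨v, hv⟩ : ∃ v : ↥N, Additive.ofMul v = (∑ k ∈ Finset.range p, rho N x ^ k) w :=
        ⟨Additive.toMul _, rfl⟩
      have h3 : rho N x (Additive.ofMul v) = Additive.ofMul v := by
        rw [hv]
        exact congrArg (fun f => f w) h2
      have h4 := congrArg (fun t => ((Additive.toMul t : ↥N) : G)) h3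
      simp only [rho_apply_val] at h4
      have h5 : x * (v : G) * x⁻¹ = (v : G) := h4
      have h6 : x * (v : G) = (v : G) * x := by
        calc x * (v : G) = (x * (v : G) * x⁻¹) * x := by group
          _ = (v : G) * x := by rw [h5]
      have h7 := hfpf x hx (v : G) v.2 h6
      rw [← hv]
      have h8 : v = 1 := Subtype.ext h7
      rw [h8]
      rfl
    have hcomm : Commute (rho N b) (rho N a) := by
      apply rho_commute_of_comm_mem
      rw [← rho_eq_one_iff]
      exact hker _ hcommH
    have hbp' : rho N b ^ p = 1 := by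
      rw [← map_pow, hexp b hbH, map_one]
    have hkey := ring_key hp (rho N b) (rho N a) hcomm hbp' (by
      intro j _
      have e : rho N b ^ j * rho N a = rho N (b ^ j * a) := by
        rw [map_mul, map_pow]
      rw [e]
      exact hsum _ (hbja j))
    rw [hsum b hbH] at hkey
    apply hNne
    rw [eq_bot_iff]
    intro y hy
    rw [Subgroup.mem_bot]
    apply hpq y hy
    have h2 := congrArg (fun f => f (Additive.ofMul (⟨y, hy⟩ : ↥N))) hkey
    simp only [AddMonoid.End.natCast_apply, AddMonoid.End.zero_apply] at h2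
    have h3 : (⟨y, hy⟩ : ↥N) ^ p = 1 := by
      have := congrArg Additive.toMul h2
      simpa using this
    have h4 := congrArg Subtype.val h3
    rw [Subgroup.coe_pow] at h4
    exact h4

end Hughes

end Cfsg.Agent.Lib.Helper1.Kegel
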